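import Cfsg.Agent.H0.SS
import Cfsg.Agent.H0.ML33.D
set_option maxRecDepth 100000
set_option Elab.async false
set_option linter.unusedSectionVars false
namespace H0.YL33
open H0 BN 
open H0.ML33 (R)
def ch : List Model.Lev := [(0, [[0], [1]], 13), (1, [[3], [4]], 12), (2, [[6], [7]], 9), (7, [[9], [10]], 4)]
def L4 : List ℕ := [0xcba9876543210]
def T3 : List ℕ := [0xbc87a96534210, 0xbc9a785643210, 0xcb789a5634210, 0xcba9876543210]
def p3 : List (ℕ × ℕ) := [(0, 0), (1, 1), (1, 1)]
def L3 : List ℕ := [0xbc87a96534210, 0xbc9a785643210, 0xcb789a5634210, 0xcba9876543210]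
def T2 : List ℕ := [0xbc3947258a610, 0xcba3628459710, 0xbc8462a357910, 0xcb8765a924310, 0xbc483a2697510, 0xbc52749386a10, 0xbc253947a6810, 0xcb9a567823410, 0xcba9876543210]
def p2 : List (ℕ × ℕ) := [(0, 0), (1, 1), (1, 1), (0, 1), (1, 2), (0, 2), (1, 2), (1, 2)]
def L2 : List ℕ := [0xcb473925a8610, 0xcb9374528a610, 0xbc749352a8610, 0xbc3947258a610, 0xbc62a38495710, 0xbc3a264859710, 0xcb263a4895710, 0xcba3628459710, 0xcb6284a375910, 0xcb48263a57910, 0xbc26483a75910, 0xbc8462a357910, 0xbc6587a942310, 0xbc78569a24310, 0xcb56789a42310, 0xcb8765a924310, 0xcb3a482679510, 0xcb84a36297510, 0xbca3846279510, 0xbc483a2697510, 0xcb74529368a10, 0xcb25473986a10, 0xbc47253968a10, 0xbc52749386a10, 0xcb3925476a810, 0xcb529374a6810, 0xbc9352746a810, 0xbc253947a6810, 0xbc569a7832410, 0xbca9658723410, 0xcb65a98732410, 0xcb9a567823410, 0xbc87a96534210, 0xbc9a785643210, 0xcb789a5634210, 0xcba9876543210]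
def T1 : List ℕ := [0x23c6ba1859740, 0x43c7b9158a620, 0x952a48361cb70, 0x1c4a2836957b0, 0x752b4c3168a90, 0x684b2c31759a0, 0xb1947253a68c0, 0x248c6ba175930, 0xa6749253b1c80, 0x9762a483b1c50, 0x8ab7c91543260, 0xcba9876543210]
def p1 : List (ℕ × ℕ) := [(0, 0), (1, 1), (1, 1), (1, 1), (0, 1), (1, 2), (1, 1), (0, 1), (0, 1), (1, 2), (1, 1)]
def X : List ((List ℕ × ℕ) × List ℕ × ℕ) := [(([], 0xcba9876543210), [], 1), (([0], 0x623987c04ab15), [1, 0, 1, 0, 1, 0, 1, 0], 8190)]
def E : List (List ℕ × ℕ) := [([], 1), ([0], 2), ([5], 3), ([0, 3], 4), ([8], 6), ([1, 8], 8), ([11], 13)]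
def U0 : List ℕ := T1
theorem c0 : Model.fixP R [2, 1, 0] [[9], [10]] = true := by decide +kernel
theorem c1 : Model.growP R [[9], [10]] [0, 1] 7 4 = true := by decide +kernel
theorem c2 : Model.fixP R [1, 0] [[6], [7]] = true := by decide +kernel
theorem c3 : Model.growP R [[6], [7]] [0, 1, 0, 1, 0] 2 9 = true := by decide +kernel
theorem c4 : Model.fixP R [0] [[3], [4]] = true := by decide +kernel
theorem c5 : Model.growP R [[3], [4]] [0, 1, 1, 0, 1, 1] 1 12 = true := by decide +kernel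
theorem c6 : Model.fixP R [] [[0], [1]] = true := by decide +kernel
theorem c7 : Model.growP R [[0], [1]] [0, 1, 0, 1, 1, 0] 0 13 = true := by decide +kernel
theorem c8 : Model.invB R (Model.cgens (ch.drop 3)) 1920 = true := by decide +kernel
theorem c9 : levB R (nat_lit 13) (nat_lit 4) [2, 1, 0] 7 1920 0xcba9876543210 [([9], 0xcb789a5634210), ([10], 0xbc9a785643210)] p3 T3 = true := by decide +kernel
theorem c10 : (prodL (nat_lit 13) (nat_lit 4) T3 L4 == L3) = true := by decide +kernel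
theorem c11 : Model.invB R (Model.cgens (ch.drop 2)) 2044 = true := by decide +kernel
theorem c12 : levB R (nat_lit 13) (nat_lit 4) [1, 0] 2 2044 0xcba9876543210 [([6], 0xcb9a567823410), ([7], 0xbc253947a6810)] p2 T2 = true := by decide +kernel
theorem c13 : (prodL (nat_lit 13) (nat_lit 4) T2 L3 == L2) = true := by decide +kernel
theorem c14 : Model.invB R (Model.cgens (ch.drop 1)) 8190 = true := by decide +kernel
theorem c15 : levB R (nat_lit 13) (nat_lit 4) [0] 1 8190 0xcba9876543210 [([3], 0x8ab7c91543260), ([4], 0x9762a483b1c50)] p1 T1 = true := by decide +kernel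
theorem c16 : Model.repB R (nat_lit 13) (nat_lit 4) 13 [[3], [4]] X = true := by decide +kernel
theorem c17 : Model.invB R (Model.cgens ch) (2 ^ 13 - 1) = true := by decide +kernel
theorem c18 : specB (nat_lit 13) (nat_lit 4) (nat_lit 13) (nat_lit 8542) [7, 2, 1, 0] (X.map (·.1.2)) U0 L2 = true := by decide +kernel
theorem c19 : H6.allL (ordB R [7, 2, 1, 0]) E = true := by decide +kernel
end H0.YL33
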