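import Cfsg.Agent.H0.YL33.D
set_option maxRecDepth 100000
set_option Elab.async false
set_option linter.unusedSectionVars false
namespace H0.YL33
open H0 BN 
open H0.ML33 (R)
universe u
variable {G : Type u} [Group G] [Finite G] (m0 : Model G) (h0 : m0.R = R) (hb : m0.pst [7, 2, 1, 0] = ⊥) (hc : Nat.card G = 5616)
include h0 hb hc
theorem base : m0.pst [7, 2, 1, 0] = ⊥ := hb
omit hb hc in
theorem ch_ok : m0.ChainOK ch [] := (m0.chain_cons [0, 1, 0, 1, 1, 0] (Model.via _ h0 (fun R => Model.fixP R [] [[0], [1]]) c6) (Model.via _ h0 (fun R => Model.growP R [[0], [1]] [0, 1, 0, 1, 1, 0] 0 13) c7) (m0.chain_cons [0, 1, 1, 0, 1, 1] (Model.via _ h0 (fun R => Model.fixP R [0] [[3], [4]]) c4) (Model.via _ h0 (fun R => Model.growP R [[3], [4]] [0, 1, 1, 0, 1, 1] 1 12) c5) (m0.chain_cons [0, 1, 0, 1, 0] (Model.via _ h0 (fun R => Model.fixP R [1, 0] [[6], [7]]) c2) (Model.via _ h0 (fun R => Model.growP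 R [[6], [7]] [0, 1, 0, 1, 0] 2 9) c3) (m0.chain_cons [0, 1] (Model.via _ h0 (fun R => Model.fixP R [2, 1, 0] [[9], [10]]) c0) (Model.via _ h0 (fun R => Model.growP R [[9], [10]] [0, 1] 7 4) c1) (m0.chain_nil _)))))
theorem E4 : m0.Enum (nat_lit 13) (nat_lit 4) [7, 2, 1, 0] L4 := m0.enum_base (base m0 h0 hb hc) (by decide +kernel)
theorem I3 : m0.Inv (m0.pst [2, 1, 0]) 1920 := ((m0.chain_pst (ch_ok m0 h0) (hc.trans (by decide +kernel)) 3).symm ▸ m0.inv_of_invB (Model.via _ h0 (fun R => Model.invB R (Model.cgens (ch.drop 3)) 1920) c8) :)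
theorem F3 : m0.Enum2 (nat_lit 13) (nat_lit 4) [2, 1, 0] T3 L4 := m0.enum_step (I3 m0 h0 hb hc) (Model.via _ h0 (fun R => levB R (nat_lit 13) (nat_lit 4) [2, 1, 0] 7 1920 0xcba9876543210 [([9], 0xcb789a5634210), ([10], 0xbc9a785643210)] p3 T3) c9) (E4 m0 h0 hb hc)
theorem E3 : m0.Enum (nat_lit 13) (nat_lit 4) [2, 1, 0] L3 := (F3 m0 h0 hb hc).enum (eq_of_beq c10)
theorem I2 : m0.Inv (m0.pst [1, 0]) 2044 := ((m0.chain_pst (ch_ok m0 h0) (hc.trans (by decide +kernel)) 2).symm ▸ m0.inv_of_invB (Model.via _ h0 (fun R => Model.invB R (Model.cgens (ch.drop 2)) 2044) c11) :)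
theorem F2 : m0.Enum2 (nat_lit 13) (nat_lit 4) [1, 0] T2 L3 := m0.enum_step (I2 m0 h0 hb hc) (Model.via _ h0 (fun R => levB R (nat_lit 13) (nat_lit 4) [1, 0] 2 2044 0xcba9876543210 [([6], 0xcb9a567823410), ([7], 0xbc253947a6810)] p2 T2) c12) (E3 m0 h0 hb hc)
theorem E2 : m0.Enum (nat_lit 13) (nat_lit 4) [1, 0] L2 := (F2 m0 h0 hb hc).enum (eq_of_beq c13)
theorem I1 : m0.Inv (m0.pst [0]) 8190 := ((m0.chain_pst (ch_ok m0 h0) (hc.trans (by decide +kernel)) 1).symm ▸ m0.inv_of_invB (Model.via _ h0 (fun R => Model.invB R (Model.cgens (ch.drop 1)) 8190) c14) :)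
theorem F1 : m0.Enum2 (nat_lit 13) (nat_lit 4) [0] T1 L2 := m0.enum_step (I1 m0 h0 hb hc) (Model.via _ h0 (fun R => levB R (nat_lit 13) (nat_lit 4) [0] 1 8190 0xcba9876543210 [([3], 0x8ab7c91543260), ([4], 0x9762a483b1c50)] p1 T1) c15) (E2 m0 h0 hb hc)
theorem reps : m0.Reps (nat_lit 13) (nat_lit 4) (X.map (·.1.2)) :=
  m0.reps_of (m0.lt_of_inv ((m0.chain_top (ch_ok m0 h0) (hc.trans (by decide +kernel))) ▸ m0.inv_of_invB (Model.via _ h0 (fun R => Model.invB R (Model.cgens ch) (2 ^ 13 - 1)) c17) :) (by decide)) [[3], [4]] (Model.via _ h0 (fun R => Model.repB R (nat_lit 13) (nat_lit 4) 13 [[3], [4]] X) c16)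
omit h0 hb hc in
theorem sl : Model.SpecLe (nat_lit 13) (nat_lit 4) (nat_lit 13) (nat_lit 8542) [7, 2, 1, 0] (X.map (·.1.2)) U0 L2 := (Model.specLe_of c18)
theorem spec : Set.range (orderOf : G → ℕ) = {d | d ∈ [1, 2, 3, 4, 6, 8, 13]} :=
  m0.spec_eq (base m0 h0 hb hc) (m0.spec_le (base m0 h0 hb hc) (by decide) (reps m0 h0 hb hc) (F1 m0 h0 hb hc) sl) (Model.via _ h0 (fun R => H6.allL (ordB R [7, 2, 1, 0]) E) c19) (K := 14) (by decide +kernel)
end H0.YL33
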